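import Cfsg.Agent.Lib.Lie.PrimeLineOver.Point
import Cfsg.Agent.Lib.Lie.Bicirculant.Final
import Cfsg.Agent.S0676

/-!
# Even overgroups of PSL(2, p) on the projective line are 4-transitive

If not, the two-point stabiliser is a rank 3 group on `p - 1` points preserving a Cayley graph of a
dihedral group, strongly regular with neither complete nor complete multipartite shape.
-/

set_option autoImplicit false
set_option linter.style.haveILetI false

namespace Cfsg.Agent.Lie.PrimeLineOver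

open MulAction

variable {X Ω : Type*} [Group X] [MulAction X Ω]

theorem card_orbit_add [Fintype Ω] [DecidableEq Ω] (O O' : Finset Ω) (a b c : Ω) (hab : a ≠ b)
    (hbc : b ≠ c) (hac : a ≠ c) (hdis : Disjoint O O')
    (hcover : ∀ x, x ≠ a → x ≠ b → x ≠ c → x ∈ O ∨ x ∈ O')
    (hO : ∀ x ∈ O, x ≠ a ∧ x ≠ b ∧ x ≠ c) (hO' : ∀ x ∈ O', x ≠ a ∧ x ≠ b ∧ x ≠ c) :
    O.card + O'.card + 3 = Fintype.card Ω := by
  classical
  have huniv : (Finset.univ : Finset Ω) = (O ∪ O') ∪ {a, b, c} := by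
    ext x
    simp only [Finset.mem_univ, Finset.mem_union, Finset.mem_insert, Finset.mem_singleton, true_iff]
    by_cases h1 : x = a
    · exact Or.inr (Or.inl h1)
    by_cases h2 : x = b
    · exact Or.inr (Or.inr (Or.inl h2))
    by_cases h3 : x = c
    · exact Or.inr (Or.inr (Or.inr h3))
    exact Or.inl (hcover x h1 h2 h3)
  have hd : Disjoint (O ∪ O') {a, b, c} := by
    rw [Finset.disjoint_left]
    intro x hx hx'
    simp only [Finset.mem_insert, Finset.mem_singleton] at hx'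
    rcases Finset.mem_union.1 hx with h | h
    · obtain ⟨h1, h2, h3⟩ := hO x h; tauto
    · obtain ⟨h1, h2, h3⟩ := hO' x h; tauto
  rw [← Finset.card_univ, huniv, Finset.card_union_of_disjoint hd, Finset.card_union_of_disjoint hdis,
    Finset.card_eq_three.2 ⟨a, b, c, hab, hac, hbc, rfl⟩]

set_option maxHeartbeats 1600000 in
theorem four_transitive [Finite X] [FaithfulSMul X Ω] [Fintype Ω] [DecidableEq Ω] {p : ℕ} (hp : p.Prime)
    (hp7 : 7 < p) (hΩ : Fintype.card Ω = p + 1)
    (heven : ∀ x : X, Equiv.Perm.sign (MulAction.toPerm x : Equiv.Perm Ω) = 1)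
    (D : Line X Ω p) (hne : D.L ≠ ⊤) : IsMultiplyPretransitive X Ω 4 := by
  classical
  haveI := Fact.mk hp
  haveI hLtr : IsPretransitive ↥D.L Ω := by
    haveI := D.two
    exact MulAction.isPretransitive_of_is_two_pretransitive
  haveI : IsPretransitive X Ω := ⟨fun x y => by
    obtain ⟨g, hg⟩ := MulAction.exists_smul_eq ↥D.L x y
    exact ⟨g, hg⟩⟩
  have hLt : ∀ {x y z w : Ω}, x ≠ y → z ≠ w → ∃ g : ↥D.L, g • x = z ∧ g • y = w :=
    fun {x y z w} h1 h3 => is_two_pretransitive_iff.1 D.two h1 h3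
  obtain ⟨a⟩ : Nonempty Ω := Fintype.card_pos_iff.1 (by omega)
  by_contra h4
  have h3A : ¬ IsMultiplyPretransitive ↥(stabilizer X a) ↥(SubMulAction.ofStabilizer X a) 3 :=
    fun h => h4 (SubMulAction.ofStabilizer.isMultiplyPretransitive.2 h)
  obtain ⟨hfaith, htr, hAc, hins, hN⟩ := point_data hp hp7 hΩ heven D hne a
  haveI := hfaith
  haveI := htr
  let A := ↥(SubMulAction.ofStabilizer X a)
  haveI : Fintype A := Fintype.ofFinite A
  have hA' : Fintype.card A = p := by rw [← Nat.card_eq_fintype_card]; exact hAc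
  obtain ⟨P⟩ : Nonempty (Sylow p ↥(stabilizer X a)) := inferInstance
  have hN' := hN P
  have h2A := Cfsg.Agent.Lie.HalfNormalizer.two_transitive (G := ↥(stabilizer X a)) (Ω := A) hAc hins
  -- the congruence of p
  have hq : Odd ((p - 1) / 2) := by
    rw [← Nat.not_even_iff_odd]
    intro heq
    apply h3A
    set H := (MulAction.toPermHom ↥(stabilizer X a) A).range with hH
    haveI : IsPretransitive H A := ⟨fun x y => by
      obtain ⟨g, hg⟩ := MulAction.exists_smul_eq ↥(stabilizer X a) x y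
      exact ⟨⟨_, g, rfl⟩, hg⟩⟩
    let ψ : ↥(stabilizer X a) →* H := (MulAction.toPermHom ↥(stabilizer X a) A).rangeRestrict
    have hψ : Function.Bijective ψ :=
      ⟨fun x y e => MulAction.toPerm_injective (congrArg Subtype.val e), MonoidHom.rangeRestrict_surjective _⟩
    let P' : Sylow p H := P.mapSurjective hψ.2
    have hev : Even (Nat.card ↥(Subgroup.normalizer ((P' : Subgroup H) : Set H))) := by
      have h1 : Nat.card ↥(Subgroup.normalizer ((P' : Subgroup H) : Set H)) =
          Nat.card ↥(Subgroup.normalizer ((P : Subgroup ↥(stabilizer X a)) : Set ↥(stabilizer X a))) := by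
        have hmap := Subgroup.map_normalizer_eq_of_bijective (P : Subgroup ↥(stabilizer X a)) (f := ψ) hψ
        rw [show (P' : Subgroup H) = (P : Subgroup ↥(stabilizer X a)).map ψ from rfl, ← hmap,
          Nat.card_congr ((Subgroup.normalizer ((P : Subgroup ↥(stabilizer X a)) : Set
            ↥(stabilizer X a))).equivMapOfInjective ψ hψ.1).toEquiv.symm]
      rw [h1]
      have hdiv : Nat.card ↥(Subgroup.normalizer ((P : Subgroup ↥(stabilizer X a)) : Set
          ↥(stabilizer X a))) = p * ((p - 1) / 2) := by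
        have hodd := hp.eq_two_or_odd
        have e : 2 * ((p - 1) / 2) = p - 1 := by omega
        refine Nat.eq_of_mul_eq_mul_left two_pos ?_
        rw [hN']
        conv_lhs => arg 2; rw [← e]
        ring
      rw [hdiv]; exact heq.mul_left _
    have h3H := Cfsg.Agent.S0676.result hA' H (Cfsg.Agent.Lie.HalfNormalizer.range_not_solvable hins) P' hev
    refine ⟨fun x y => ?_⟩
    obtain ⟨⟨_, g, rfl⟩, hg⟩ := h3H.exists_smul_eq x y
    exact ⟨g, hg⟩
  obtain ⟨C⟩ := Cfsg.Agent.Lie.HalfNormalizer.exists_coords hAc (by omega) P hN'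
  have hp2 : p ≠ 2 := by omega
  have h2A' : ∀ {x y z w : A}, x ≠ y → z ≠ w → ∃ g : ↥(stabilizer X a), g • x = z ∧ g • y = w :=
    fun {x y z w} h1 h3 => is_two_pretransitive_iff.1 h2A h1 h3
  -- triples can be moved
  have h3X : ∀ {u v w u' v' w' : Ω}, u ≠ v → u ≠ w → v ≠ w → u' ≠ v' → u' ≠ w' → v' ≠ w' →
      ∃ g : X, g • u = u' ∧ g • v = v' ∧ g • w = w' := by
    intro u v w u' v' w' h1 h2 h3 h1' h2' h3'
    obtain ⟨l, hl⟩ := MulAction.exists_smul_eq ↥D.L u a
    obtain ⟨l', hl'⟩ := MulAction.exists_smul_eq ↥D.L u' a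
    have ne : ∀ {m : ↥D.L} {s t : Ω}, m • s = a → s ≠ t → m • t ≠ a := fun hm hst h =>
      hst (smul_left_cancel _ (hm.trans h.symm))
    obtain ⟨g, gv, gw⟩ := h2A'
      (x := (⟨l • v, ne hl h1⟩ : A)) (y := ⟨l • w, ne hl h2⟩) (z := ⟨l' • v', ne hl' h1'⟩)
      (w := ⟨l' • w', ne hl' h2'⟩)
      (fun h => h3 (smul_left_cancel l (congrArg Subtype.val h)))
      (fun h => h3' (smul_left_cancel l' (congrArg Subtype.val h)))
    have gv' : (g : X) • (l : X) • v = (l' : X) • v' := congrArg Subtype.val gv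
    have gw' : (g : X) • (l : X) • w = (l' : X) • w' := congrArg Subtype.val gw
    refine ⟨(l' : X)⁻¹ * (g : X) * (l : X), ?_, ?_, ?_⟩
    · rw [mul_smul, mul_smul, show (l : X) • u = a from hl, show (g : X) • a = a from g.2, inv_smul_eq_iff]
      exact hl'.symm
    · rw [mul_smul, mul_smul, gv', inv_smul_smul]
    · rw [mul_smul, mul_smul, gw', inv_smul_smul]
  -- three further points
  have three : ∀ {u v w x y z : Ω}, u ≠ v → u ≠ w → v ≠ w → x ≠ u → x ≠ v → x ≠ w →
      y ≠ u → y ≠ v → y ≠ w → z ≠ u → z ≠ v → z ≠ w →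
      ∃ g : X, g • u = u ∧ g • v = v ∧ g • w = w ∧ (g • x = y ∨ g • x = z ∨ g • y = z) := by
    intro u v w x y z h1 h2 h3 hxu hxv hxw hyu hyv hyw hzu hzv hzw
    obtain ⟨l, hl⟩ := MulAction.exists_smul_eq ↥D.L u a
    have ne : ∀ {t : Ω}, t ≠ u → l • t ≠ a := fun ht h => ht (smul_left_cancel _ (h.trans hl.symm))
    have ne' : ∀ {s t : Ω} (hs : s ≠ u) (ht : t ≠ u), s ≠ t → (⟨l • s, ne hs⟩ : A) ≠ ⟨l • t, ne ht⟩ :=
      fun _ _ hst h => hst (smul_left_cancel l (congrArg Subtype.val h))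
    obtain ⟨g, gv, gw, hg⟩ := Cfsg.Agent.Lie.HalfNormalizer.exists_fixing_of_three hA' h2A hins hp2 C
      (a := (⟨l • v, ne h1.symm⟩ : A)) (b := ⟨l • w, ne h2.symm⟩) (ne' h1.symm h2.symm h3)
      (x := ⟨l • x, ne hxu⟩) (y := ⟨l • y, ne hyu⟩) (z := ⟨l • z, ne hzu⟩)
      ⟨ne' hxu h1.symm hxv, ne' hxu h2.symm hxw⟩ ⟨ne' hyu h1.symm hyv, ne' hyu h2.symm hyw⟩
      ⟨ne' hzu h1.symm hzv, ne' hzu h2.symm hzw⟩
    have back : ∀ {s t : Ω}, (g : X) • (l : X) • s = (l : X) • t → ((l : X)⁻¹ * (g : X) * (l : X)) • s = t :=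
      fun h => by rw [mul_smul, mul_smul, h, inv_smul_smul]
    refine ⟨(l : X)⁻¹ * (g : X) * (l : X), back (by
      rw [show (l : X) • u = a from hl]; exact g.2), back (congrArg Subtype.val gv), back (congrArg Subtype.val gw), ?_⟩
    rcases hg with h | h | h
    · exact Or.inl (back (congrArg Subtype.val h))
    · exact Or.inr (Or.inl (back (congrArg Subtype.val h)))
    · exact Or.inr (Or.inr (back (congrArg Subtype.val h)))
  -- a base configuration
  obtain ⟨b, hba⟩ := Fintype.exists_ne_of_one_lt_card (α := Ω) (by omega) a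
  have hab : a ≠ b := hba.symm
  obtain ⟨c, hca, hcb⟩ : ∃ c : Ω, c ≠ a ∧ c ≠ b := by
    obtain ⟨c, -, hc⟩ := Finset.exists_mem_notMem_of_card_lt_card (s := ({a, b} : Finset Ω))
      (t := Finset.univ) (by rw [Finset.card_pair hab, Finset.card_univ]; omega)
    simp only [Finset.mem_insert, Finset.mem_singleton, not_or] at hc
    exact ⟨c, hc.1, hc.2⟩
  obtain ⟨x0, y0, hx0a, hx0b, hx0c, hy0a, hy0b, hy0c, hsep⟩ : ∃ x0 y0 : Ω, x0 ≠ a ∧ x0 ≠ b ∧ x0 ≠ c ∧
      y0 ≠ a ∧ y0 ≠ b ∧ y0 ≠ c ∧ ∀ g : X, g • a = a → g • b = b → g • c = c → g • x0 ≠ y0 := by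
    by_contra hcon
    push Not at hcon
    apply h3A
    refine Cfsg.Agent.Lie.HalfNormalizer.three_transitive_of h2A (a := (⟨b, hba⟩ : A)) (b := ⟨c, hca⟩)
      (fun h => hcb (congrArg Subtype.val h).symm) ?_
    rintro ⟨x, hx⟩ ⟨y, hy⟩ hxb hxc hyb hyc
    obtain ⟨g, ga, gb, gc, gx⟩ := hcon x y hx (fun h => hxb (Subtype.ext h)) (fun h => hxc (Subtype.ext h))
      hy (fun h => hyb (Subtype.ext h)) (fun h => hyc (Subtype.ext h))
    exact ⟨⟨g, ga⟩, Subtype.ext gb, Subtype.ext gc, Subtype.ext gx⟩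
  -- the invariant relation on quadruples
  let R : Ω → Ω → Ω → Ω → Prop := fun u v w z => ∃ g : X, g • a = u ∧ g • b = v ∧ g • c = w ∧ g • x0 = z
  have R_smul : ∀ (g : X) u v w z, R (g • u) (g • v) (g • w) (g • z) ↔ R u v w z := by
    intro g u v w z
    constructor
    · rintro ⟨k, h1, h2, h3, h4⟩
      exact ⟨g⁻¹ * k, by rw [mul_smul, h1, inv_smul_smul], by rw [mul_smul, h2, inv_smul_smul],
        by rw [mul_smul, h3, inv_smul_smul], by rw [mul_smul, h4, inv_smul_smul]⟩
    · rintro ⟨k, h1, h2, h3, h4⟩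
      exact ⟨g * k, by rw [mul_smul, h1], by rw [mul_smul, h2], by rw [mul_smul, h3], by rw [mul_smul, h4]⟩
  have Rne : ∀ u v w z, R u v w z → u ≠ v ∧ u ≠ w ∧ v ≠ w ∧ z ≠ u ∧ z ≠ v ∧ z ≠ w := by
    rintro u v w z ⟨g, rfl, rfl, rfl, rfl⟩
    exact ⟨fun h => hab (smul_left_cancel g h), fun h => hca (smul_left_cancel g h).symm,
      fun h => hcb (smul_left_cancel g h).symm, fun h => hx0a (smul_left_cancel g h),
      fun h => hx0b (smul_left_cancel g h), fun h => hx0c (smul_left_cancel g h)⟩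
  have Rbase : R a b c x0 := ⟨1, one_smul _ _, one_smul _ _, one_smul _ _, one_smul _ _⟩
  have Rnot : ¬ R a b c y0 := fun ⟨g, ga, gb, gc, gx⟩ => hsep g ga gb gc gx
  have Rout : ∀ z, z ≠ a → z ≠ b → z ≠ c → ¬ R a b c z →
      ∃ g : X, g • a = a ∧ g • b = b ∧ g • c = c ∧ g • y0 = z := by
    intro z hza hzb hzc hz
    obtain ⟨g, ga, gb, gc, h | h | h⟩ := three hab hca.symm hcb.symm hx0a hx0b hx0c hy0a hy0b hy0c hza hzb hzc
    · exact absurd h (hsep g ga gb gc)
    · exact absurd ⟨g, ga, gb, gc, h⟩ hz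
    · exact ⟨g, ga, gb, gc, h⟩
  let O : Finset Ω := Finset.univ.filter fun z => R a b c z
  let O' : Finset Ω := Finset.univ.filter fun z => z ≠ a ∧ z ≠ b ∧ z ≠ c ∧ ¬ R a b c z
  have hOcard : O.card ≠ O'.card := by
    have h := card_orbit_add O O' a b c hab hcb.symm hca.symm
      (Finset.disjoint_left.2 fun x hx hx' => (Finset.mem_filter.1 hx').2.2.2.2 (Finset.mem_filter.1 hx).2)
      (fun x h1 h2 h3 => by by_cases hR : R a b c x <;> simp [O, O', h1, h2, h3, hR])
      (fun x hx => by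
        obtain ⟨-, -, -, h1, h2, h3⟩ := Rne _ _ _ _ (Finset.mem_filter.1 hx).2
        exact ⟨h1, h2, h3⟩)
      (fun x hx => ⟨(Finset.mem_filter.1 hx).2.1, (Finset.mem_filter.1 hx).2.2.1, (Finset.mem_filter.1 hx).2.2.2.1⟩)
    have := hp.eq_two_or_odd
    omega
  have hswap : ∀ u v w z, R u v w z → R v u w z := by
    obtain ⟨s, sa, sb, sc⟩ := h3X hab hca.symm hcb.symm hba hcb.symm hca.symm
    have sia : s⁻¹ • a = b := inv_smul_eq_iff.2 sb.symm
    have sib : s⁻¹ • b = a := inv_smul_eq_iff.2 sa.symm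
    have sic : s⁻¹ • c = c := inv_smul_eq_iff.2 sc.symm
    have hsx : R a b c (s • x0) := by
      by_contra hcon
      have himg : O.image (fun z => s • z) = O' := by
        ext z
        simp only [O, O', Finset.mem_image, Finset.mem_filter, Finset.mem_univ, true_and]
        constructor
        · rintro ⟨w, hw, rfl⟩
          obtain ⟨-, -, -, h1, h2, h3⟩ := Rne _ _ _ _ hw
          obtain ⟨g, ga, gb, gc, rfl⟩ := hw
          refine ⟨fun h => h2 (by rw [← sb] at h; exact smul_left_cancel s h),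
            fun h => h1 (by rw [← sa] at h; exact smul_left_cancel s h),
            fun h => h3 (by rw [← sc] at h; exact smul_left_cancel s h), fun hR => hcon ?_⟩
          obtain ⟨k, ka, kb, kc, kx⟩ := hR
          refine ⟨(s * g⁻¹ * s⁻¹) * k, ?_, ?_, ?_, ?_⟩
          · simp only [mul_smul, ka, sia, inv_smul_eq_iff.2 gb.symm, sb]
          · simp only [mul_smul, kb, sib, inv_smul_eq_iff.2 ga.symm, sa]
          · simp only [mul_smul, kc, sic, inv_smul_eq_iff.2 gc.symm, sc]
          · simp only [mul_smul, kx, inv_smul_smul]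
        · rintro ⟨hza, hzb, hzc, hz⟩
          obtain ⟨g, ga, gb, gc, gy⟩ := Rout z hza hzb hzc hz
          obtain ⟨k, ka, kb, kc, kx⟩ := Rout (s • x0)
            (fun h => hx0b (by rw [← sb] at h; exact smul_left_cancel s h))
            (fun h => hx0a (by rw [← sa] at h; exact smul_left_cancel s h))
            (fun h => hx0c (by rw [← sc] at h; exact smul_left_cancel s h)) hcon
          refine ⟨s⁻¹ • z, ⟨s⁻¹ * g * k⁻¹ * s, ?_, ?_, ?_, ?_⟩, smul_inv_smul _ _⟩
          · simp only [mul_smul, sa, inv_smul_eq_iff.2 kb.symm, gb, sib]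
          · simp only [mul_smul, sb, inv_smul_eq_iff.2 ka.symm, ga, sia]
          · simp only [mul_smul, sc, inv_smul_eq_iff.2 kc.symm, gc, sic]
          · simp only [mul_smul, inv_smul_eq_iff.2 kx.symm, gy]
      exact hOcard (by rw [← himg, Finset.card_image_of_injective _ (fun u w h => smul_left_cancel s h)])
    rintro u v w z ⟨g, rfl, rfl, rfl, rfl⟩
    refine (R_smul g b a c x0).2 ?_
    obtain ⟨k, ka, kb, kc, kx⟩ := hsx
    exact ⟨s⁻¹ * k, by rw [mul_smul, ka, sia], by rw [mul_smul, kb, sib], by rw [mul_smul, kc, sic],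
      by rw [mul_smul, kx, inv_smul_smul]⟩
  -- symmetry in the last two points, by counting
  obtain ⟨K, hK⟩ : ∃ K : Ω → Subgroup X, ∀ z, K z = stabilizer X a ⊓ stabilizer X b ⊓ stabilizer X z :=
    ⟨_, fun _ => rfl⟩
  have hcount : ∀ (w : Ω) (S : Finset Ω), (∀ z, z ∈ S ↔ ∃ g : X, g • a = a ∧ g • b = b ∧ g • c = c ∧ g • w = z) →
      S.card * Nat.card ↥(stabilizer ↥(K c) w) = Nat.card ↥(K c) := by
    intro w S hS
    rw [← Subgroup.card_mul_index (stabilizer ↥(K c) w), index_stabilizer, mul_comm]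
    congr 1
    rw [← Set.ncard_coe_finset]
    congr 1
    ext z
    rw [Finset.mem_coe, hS]
    constructor
    · rintro ⟨g, ga, gb, gc, gw⟩
      exact ⟨⟨g, by rw [hK]; exact ⟨⟨ga, gb⟩, gc⟩⟩, gw⟩
    · rintro ⟨⟨g, hg⟩, gw⟩
      rw [hK] at hg
      exact ⟨g, hg.1.1, hg.1.2, hg.2, gw⟩
  have hrot : ∀ u v w z, R u v w z → R u v z w := by
    obtain ⟨h, ha, hb, hc⟩ := h3X hab hca.symm hcb.symm hab hx0a.symm hx0b.symm
    have hia : h⁻¹ • a = a := inv_smul_eq_iff.2 ha.symm
    have hib : h⁻¹ • b = b := inv_smul_eq_iff.2 hb.symm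
    have hix : h⁻¹ • x0 = c := inv_smul_eq_iff.2 hc.symm
    have hy : R a b c (h⁻¹ • c) := by
      by_contra hcon
      have hne1 : h⁻¹ • c ≠ a := fun e => hca (by rw [← hia] at e; exact smul_left_cancel _ e)
      have hne2 : h⁻¹ • c ≠ b := fun e => hcb (by rw [← hib] at e; exact smul_left_cancel _ e)
      have hne3 : h⁻¹ • c ≠ c := fun e => hx0c (hc.symm.trans (inv_smul_eq_iff.1 e).symm)
      obtain ⟨k, ka, kb, kc, ky⟩ := Rout _ hne1 hne2 hne3 hcon
      apply hOcard
      have e1 := hcount x0 O (fun z => by simp [O, R])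
      have e2 := hcount (h⁻¹ • c) O' (fun z => by
        simp only [O', Finset.mem_filter, Finset.mem_univ, true_and]
        constructor
        · rintro ⟨hza, hzb, hzc, hz⟩
          obtain ⟨g, ga, gb, gc, gy⟩ := Rout z hza hzb hzc hz
          refine ⟨g * k⁻¹, ?_, ?_, ?_, ?_⟩ <;>
            simp only [mul_smul, inv_smul_eq_iff.2 ka.symm, inv_smul_eq_iff.2 kb.symm,
              inv_smul_eq_iff.2 kc.symm, inv_smul_eq_iff.2 ky.symm, ga, gb, gc, gy]
        · rintro ⟨g, ga, gb, gc, gz⟩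
          refine ⟨fun e => hne1 ?_, fun e => hne2 ?_, fun e => hne3 ?_, fun hR => hcon ?_⟩
          · exact smul_left_cancel g (gz.trans (e.trans ga.symm))
          · exact smul_left_cancel g (gz.trans (e.trans gb.symm))
          · exact smul_left_cancel g (gz.trans (e.trans gc.symm))
          · obtain ⟨m, ma, mb, mc, mx⟩ := hR
            exact ⟨g⁻¹ * m, by rw [mul_smul, ma, inv_smul_eq_iff, ga], by rw [mul_smul, mb, inv_smul_eq_iff, gb],
              by rw [mul_smul, mc, inv_smul_eq_iff, gc], by rw [mul_smul, mx, ← gz, inv_smul_smul]⟩)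
      have hsame : Nat.card ↥(stabilizer ↥(K c) x0) = Nat.card ↥(stabilizer ↥(K c) (h⁻¹ • c)) := by
        have mem : ∀ (w : Ω) (g : ↥(stabilizer ↥(K c) w)), ((g : ↥(K c)) : X) • a = a ∧
            ((g : ↥(K c)) : X) • b = b ∧ ((g : ↥(K c)) : X) • c = c ∧ ((g : ↥(K c)) : X) • w = w := by
          intro w g
          have h1 : ((g : ↥(K c)) : X) ∈ stabilizer X a ⊓ stabilizer X b ⊓ stabilizer X c :=
            hK c ▸ (g : ↥(K c)).2
          exact ⟨h1.1.1, h1.1.2, h1.2, g.2⟩
        refine Nat.card_congr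
          { toFun := fun g => ⟨⟨h⁻¹ * ((g : ↥(K c)) : X) * h, ?_⟩, ?_⟩
            invFun := fun g => ⟨⟨h * ((g : ↥(K c)) : X) * h⁻¹, ?_⟩, ?_⟩
            left_inv := fun g => by apply Subtype.ext; apply Subtype.ext; simp [mul_assoc]
            right_inv := fun g => by apply Subtype.ext; apply Subtype.ext; simp [mul_assoc] }
        · obtain ⟨ga, gb, gc, gx⟩ := mem _ g
          show _ ∈ ((K c : Subgroup X))
          simp only [hK]
          exact ⟨⟨by simp [mem_stabilizer_iff, mul_smul, ha, ga, hia],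
            by simp [mem_stabilizer_iff, mul_smul, hb, gb, hib]⟩,
            by simp [mem_stabilizer_iff, mul_smul, hc, gx, hix]⟩
        · obtain ⟨ga, gb, gc, gx⟩ := mem _ g
          show (h⁻¹ * ((g : ↥(K c)) : X) * h) • h⁻¹ • c = h⁻¹ • c
          simp [mul_smul, gc]
        · obtain ⟨ga, gb, gc, gy⟩ := mem _ g
          show _ ∈ ((K c : Subgroup X))
          simp only [hK]
          refine ⟨⟨by simp [mem_stabilizer_iff, mul_smul, hia, ga, ha],
            by simp [mem_stabilizer_iff, mul_smul, hib, gb, hb]⟩, ?_⟩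
          show (h * ((g : ↥(K c)) : X) * h⁻¹) • c = c
          simp [mul_smul, gy]
        · obtain ⟨ga, gb, gc, gy⟩ := mem _ g
          show (h * ((g : ↥(K c)) : X) * h⁻¹) • x0 = x0
          simp [mul_smul, hix, gc, hc]
      rw [hsame] at e1
      exact Nat.eq_of_mul_eq_mul_right Nat.card_pos (e1.trans e2.symm)
    rintro u v w z ⟨g, rfl, rfl, rfl, rfl⟩
    refine (R_smul g a b x0 c).2 ?_
    have := (R_smul h a b c (h⁻¹ • c)).2 hy
    rwa [ha, hb, hc, smul_inv_smul] at this
  -- the graph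
  let E : Ω → Ω → Prop := fun z w => R a b z w
  have Esymm : ∀ {z w}, E z w → E w z := fun h => hrot _ _ _ _ h
  have Einv : ∀ (g : X), ((g • a = a ∧ g • b = b) ∨ (g • a = b ∧ g • b = a)) → ∀ z w,
      (E (g • z) (g • w) ↔ E z w) := by
    rintro g (⟨ga, gb⟩ | ⟨ga, gb⟩) z w
    · have := R_smul g a b z w
      rwa [ga, gb] at this
    · have := R_smul g a b z w
      rw [ga, gb] at this
      exact ⟨fun h => this.1 (hswap _ _ _ _ h), fun h => hswap _ _ _ _ (this.2 h)⟩
  have Ene : ∀ {z w}, E z w → w ≠ a ∧ w ≠ b ∧ w ≠ z := fun h => by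
    obtain ⟨-, -, -, h1, h2, h3⟩ := Rne _ _ _ _ h
    exact ⟨h1, h2, h3⟩
  let nb : Ω → Finset Ω := fun z => Finset.univ.filter fun w => E z w
  have hnb : ∀ z w, w ∈ nb z ↔ E z w := fun z w => by simp [nb]
  let com : Ω → Ω → ℕ := fun z w => (nb z ∩ nb w).card
  have hcom : ∀ (g : X), ((g • a = a ∧ g • b = b) ∨ (g • a = b ∧ g • b = a)) → ∀ z w,
      com (g • z) (g • w) = com z w := by
    intro g hg z w
    show (nb (g • z) ∩ nb (g • w)).card = _
    symm
    refine Finset.card_bij (fun u _ => g • u) (fun u hu => ?_) (fun u _ v _ h => smul_left_cancel g h)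
      (fun u hu => ⟨g⁻¹ • u, ?_, smul_inv_smul g u⟩)
    · simp only [Finset.mem_inter, hnb] at hu ⊢
      exact ⟨(Einv g hg z u).2 hu.1, (Einv g hg w u).2 hu.2⟩
    · simp only [Finset.mem_inter, hnb] at hu ⊢
      rw [← Einv g hg z, ← Einv g hg w, smul_inv_smul]
      exact hu
  have to_c : ∀ z, z ≠ a → z ≠ b → ∃ g : X, g • a = a ∧ g • b = b ∧ g • c = z := fun z h1 h2 =>
    h3X hab hca.symm hcb.symm hab h1.symm h2.symm
  have hdeg : ∀ z, z ≠ a → z ≠ b → (nb z).card = (nb c).card := by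
    intro z hz1 hz2
    obtain ⟨g, ga, gb, gc⟩ := to_c z hz1 hz2
    have := hcom g (Or.inl ⟨ga, gb⟩) c c
    simp only [com, Finset.inter_self, gc] at this
    exact this
  set k := (nb c).card with hk
  set lam := com c x0 with hlam
  set mu := com c y0 with hmu
  have hlam' : ∀ z w, E z w → com z w = lam := by
    intro z w h
    obtain ⟨g, ga, gb, gz, gw⟩ := h
    rw [← gz, ← gw, hcom g (Or.inl ⟨ga, gb⟩)]
  have hmu' : ∀ z w, z ≠ a → z ≠ b → w ≠ a → w ≠ b → z ≠ w → ¬ E z w → com z w = mu := by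
    intro z w hza hzb hwa hwb hzw hE
    obtain ⟨g, ga, gb, gc⟩ := to_c z hza hzb
    have hgi : g⁻¹ • a = a ∧ g⁻¹ • b = b := ⟨inv_smul_eq_iff.2 ga.symm, inv_smul_eq_iff.2 gb.symm⟩
    obtain ⟨k', ka, kb, kc, ky⟩ := Rout (g⁻¹ • w)
      (fun e => hwa (by rw [← smul_inv_smul g w, e, ga]))
      (fun e => hwb (by rw [← smul_inv_smul g w, e, gb]))
      (fun e => hzw (by rw [← smul_inv_smul g w, e, gc]))
      (fun hR => hE (by
        have := (Einv g (Or.inl ⟨ga, gb⟩) c (g⁻¹ • w)).2 hR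
        rwa [gc, smul_inv_smul] at this))
    have := hcom (g * k') (Or.inl ⟨by rw [mul_smul, ka, ga], by rw [mul_smul, kb, gb]⟩) c y0
    rw [mul_smul, mul_smul, kc, gc, ky, smul_inv_smul] at this
    exact this
  -- primitivity of the two-point stabiliser
  have noBlock : ∀ (Q : Ω → Ω → Prop), (∀ u, Q u u) → (∀ u v, Q u v → Q v u) →
      (∀ u v w, u ≠ a → u ≠ b → v ≠ a → v ≠ b → w ≠ a → w ≠ b → Q u v → Q v w → Q u w) →
      (∀ g : X, g • a = a → g • b = b → ∀ u v, Q u v → Q (g • u) (g • v)) →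
      ∀ b' x, b' ≠ a → b' ≠ b → b' ≠ c → x ≠ a → x ≠ b → Q c b' → ¬ Q c x → False := by
    intro Q hQr hQs hQt hQg b' x hb'a hb'b hb'c hxa hxb hQb hQx
    refine Cfsg.Agent.Lie.HalfNormalizer.no_block hA' hins hp7 C (a := (⟨b, hba⟩ : A)) (b := ⟨c, hca⟩)
      (b' := ⟨b', hb'a⟩) (fun e => hcb (congrArg Subtype.val e).symm) (fun e => hb'c (congrArg Subtype.val e).symm)
      { B := {z | (z : Ω) ≠ b ∧ Q c z}
        hb := ⟨hcb, hQr c⟩
        hb' := ⟨hb'b, hQb⟩
        ha := fun h => h.1 rfl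
        x := ⟨x, hxa⟩
        hxa := fun e => hxb (congrArg Subtype.val e)
        hxB := fun h => hQx h.2
        block := ?_ }
    rintro g gb ⟨z, hz⟩ ⟨hzb, hQz⟩ ⟨-, hQgz⟩ ⟨w, hw⟩ ⟨hwb, hQw⟩
    have gb' : (g : X) • b = b := congrArg Subtype.val gb
    have ga : (g : X) • a = a := g.2
    have nb' : ∀ {u : Ω}, u ≠ b → (g : X) • u ≠ b := fun hu e =>
      hu (smul_left_cancel _ (e.trans gb'.symm))
    have na' : ∀ {u : Ω}, u ≠ a → (g : X) • u ≠ a := fun hu e =>
      hu (smul_left_cancel _ (e.trans ga.symm))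
    refine ⟨nb' hwb, ?_⟩
    show Q c ((g : X) • w)
    exact hQt _ _ _ hca hcb (na' hz) (nb' hzb) (na' hw) (nb' hwb) hQgz
      (hQg _ ga gb' _ _ (hQt _ _ _ hz hzb hca hcb hw hwb (hQs _ _ hQz) hQw))
  have hmu0 : mu ≠ 0 := by
    intro h0
    refine noBlock (fun u v => u = v ∨ E u v) (fun u => Or.inl rfl)
      (fun u v h => h.imp Eq.symm Esymm) ?_ (fun g ga gb u v h => h.imp (congrArg _) (Einv g (Or.inl ⟨ga, gb⟩) u v).2)
      x0 y0 hx0a hx0b hx0c hy0a hy0b (Or.inr Rbase) (fun h => h.elim (Ne.symm hy0c) Rnot)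
    rintro u v w hua hub hva hvb hwa hwb (rfl | huv) (rfl | hvw)
    · exact Or.inl rfl
    · exact Or.inr hvw
    · exact Or.inr huv
    · by_cases huw : u = w
      · exact Or.inl huw
      refine Or.inr (by_contra fun hE => ?_)
      have := hmu' u w hua hub hwa hwb huw hE
      rw [h0] at this
      have hmem : v ∈ nb u ∩ nb w := Finset.mem_inter.2 ⟨(hnb _ _).2 huv, (hnb _ _).2 (Esymm hvw)⟩
      rw [show com u w = (nb u ∩ nb w).card from rfl, Finset.card_eq_zero] at this
      rw [this] at hmem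
      exact Finset.notMem_empty _ hmem
  have hmuk : mu ≠ k := by
    intro hk'
    have hsame : nb c = nb y0 := by
      have h1 : nb c ∩ nb y0 = nb c := Finset.eq_of_subset_of_card_le Finset.inter_subset_left (le_of_eq hk'.symm)
      refine Finset.eq_of_subset_of_card_le (Finset.inter_eq_left.1 h1) ?_
      rw [hdeg y0 hy0a hy0b]
    refine noBlock (fun u v => nb u = nb v) (fun u => rfl) (fun u v h => h.symm)
      (fun u v w _ _ _ _ _ _ h h' => h.trans h') ?_ y0 x0 hy0a hy0b hy0c hx0a hx0b hsame ?_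
    · intro g ga gb u v h
      ext z
      rw [hnb, hnb, ← smul_inv_smul g z, Einv g (Or.inl ⟨ga, gb⟩), Einv g (Or.inl ⟨ga, gb⟩), ← hnb, ← hnb, h]
    · intro h
      have : x0 ∈ nb c := (hnb _ _).2 Rbase
      rw [h, hnb] at this
      exact (Ene this).2.2 rfl
  -- the dihedral group acting regularly
  obtain ⟨hcyc, v, hv, hva, hvb, hvinv⟩ := D.torus a b hab
  set T := stabilizer ↥D.L a ⊓ stabilizer ↥D.L b with hT
  obtain ⟨γ, hγ⟩ := hcyc.exists_generator
  have hTc : Nat.card ↥T = (p - 1) / 2 := by have := D.card_two a b hab; rw [← hT] at this; omega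
  set q := (p - 1) / 2 with hqdef
  have hpq : p = 2 * q + 1 := by
    obtain ⟨m, hm⟩ := hp.odd_of_ne_two hp2
    omega
  haveI : NeZero q := ⟨by omega⟩
  have hγo : orderOf ((γ : ↥D.L)) = q := by
    rw [Subgroup.orderOf_coe, orderOf_eq_card_of_forall_mem_zpowers hγ, hTc]
  have hfree : ∀ t ∈ T, ∀ z : Ω, z ≠ a → z ≠ b → t • z = z → t = 1 := fun t ht z hza hzb htz =>
    Subtype.ext (D.three _ t.2 a b z hab hzb.symm hza.symm ht.1 ht.2 htz)
  have hvv : v * v = 1 := by rw [← pow_two, ← hv, pow_orderOf_eq_one]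
  have hswapfree : ∀ t ∈ T, ∀ z : Ω, (t * v) • z ≠ z := by
    intro t ht z hz
    have hne1 : t * v ≠ 1 := by
      intro h
      have h' : (t * v) • a = a := by rw [h, one_smul]
      rw [mul_smul, hva, ht.2] at h'
      exact hba h'
    have hsq : (t * v) * (t * v) = 1 := by
      calc (t * v) * (t * v) = t * (v * t * v⁻¹) * (v * v) := by group
        _ = 1 := by rw [hvinv t ht, hvv, mul_one, mul_inv_cancel]
    haveI : Fact (Nat.Prime 2) := ⟨Nat.prime_two⟩
    have ho : orderOf (t * v) = 2 := orderOf_eq_prime (by rw [pow_two, hsq]) hne1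
    have hd : 2 ∣ Nat.card ↥(stabilizer ↥D.L z) := ho ▸ Subgroup.orderOf_dvd_natCard _ hz
    obtain ⟨j, hj⟩ := hd
    have hL := D.card_one z
    rw [hj, show p - 1 = 2 * q by omega] at hL
    have h2j : 2 * j = p * q := by linarith
    have hodd : Odd (p * q) := (hp.odd_of_ne_two hp2).mul hq
    rw [← h2j] at hodd
    exact (Nat.not_odd_iff_even.2 (even_two_mul j)) hodd
  let gi : ZMod q → ↥D.L := fun i => (γ : ↥D.L) ^ i.val
  have hgiT : ∀ i, gi i ∈ T := fun i => Subgroup.pow_mem _ γ.2 _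
  have hgiadd : ∀ i j, gi (i + j) = gi i * gi j := fun i j => by
    show (γ : ↥D.L) ^ _ = (γ : ↥D.L) ^ _ * (γ : ↥D.L) ^ _
    rw [← pow_add, ZMod.val_add]
    conv_rhs => rw [← pow_mod_orderOf, hγo]
  have hgi0 : gi 0 = 1 := by show (γ : ↥D.L) ^ (0 : ZMod q).val = 1; simp
  have hgineg : ∀ i, gi (-i) = (gi i)⁻¹ := fun i => eq_inv_of_mul_eq_one_left (by rw [← hgiadd, neg_add_cancel, hgi0])
  have hginj : Function.Injective gi := fun i j h => by
    have := pow_injOn_Iio_orderOf (x := (γ : ↥D.L)) (by rw [Set.mem_Iio, hγo]; exact ZMod.val_lt i)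
      (by rw [Set.mem_Iio, hγo]; exact ZMod.val_lt j) h
    exact ZMod.val_injective _ this
  have hgv : ∀ i, v * gi i = gi (-i) * v := fun i => by
    rw [hgineg, ← hvinv _ (hgiT i), inv_mul_cancel_right]
  have hTL : ∀ t ∈ T, ((t : X) • a = a ∧ (t : X) • b = b) ∨ ((t : X) • a = b ∧ (t : X) • b = a) :=
    fun t ht => Or.inl ⟨ht.1, ht.2⟩
  have hvL : (((v : X) • a = a ∧ (v : X) • b = b) ∨ ((v : X) • a = b ∧ (v : X) • b = a)) := Or.inr ⟨hva, hvb⟩
  let r : ZMod q → Ω := fun i => gi i • c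
  let s : ZMod q → Ω := fun i => gi i • v • c
  have hr_ne : ∀ i, r i ≠ a ∧ r i ≠ b := fun i =>
    ⟨fun e => hca (smul_left_cancel (gi i) (e.trans (hgiT i).1.symm)),
     fun e => hcb (smul_left_cancel (gi i) (e.trans (hgiT i).2.symm))⟩
  have hs_ne : ∀ i, s i ≠ a ∧ s i ≠ b := by
    intro i
    refine ⟨fun e => hcb ?_, fun e => hca ?_⟩
    · have := smul_left_cancel (gi i) (e.trans (hgiT i).1.symm)
      rw [← hvb] at this
      exact smul_left_cancel v this
    · have := smul_left_cancel (gi i) (e.trans (hgiT i).2.symm)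
      rw [← hva] at this
      exact smul_left_cancel v this
  have hr_inj : Function.Injective r := by
    intro i j h
    refine hginj ?_
    have := hfree ((gi j)⁻¹ * gi i) (mul_mem (inv_mem (hgiT j)) (hgiT i)) c hca hcb
      (by rw [mul_smul]; exact inv_smul_eq_iff.2 h)
    exact (inv_mul_eq_one.1 this).symm
  have hs_inj : Function.Injective s := by
    intro i j h
    refine hginj ?_
    have hne1 := hs_ne 0
    simp only [s, hgi0, one_smul] at hne1
    have := hfree ((gi j)⁻¹ * gi i) (mul_mem (inv_mem (hgiT j)) (hgiT i)) (v • c) hne1.1 hne1.2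
      (by rw [mul_smul]; exact inv_smul_eq_iff.2 h)
    exact (inv_mul_eq_one.1 this).symm
  have hrs : ∀ i j, r i ≠ s j := by
    intro i j h
    apply hswapfree ((gi i)⁻¹ * gi j) (mul_mem (inv_mem (hgiT i)) (hgiT j)) c
    rw [mul_smul, mul_smul]
    exact inv_smul_eq_iff.2 h.symm
  have hsurj : ∀ z, z ≠ a → z ≠ b → (∃ i, r i = z) ∨ ∃ i, s i = z := by
    intro z hza hzb
    have hsub : (Finset.univ.image r ∪ Finset.univ.image s) = (Finset.univ.erase a).erase b := by
      refine Finset.eq_of_subset_of_card_le (fun w hw => ?_) ?_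
      · simp only [Finset.mem_erase, Finset.mem_univ, and_true]
        rcases Finset.mem_union.1 hw with h | h <;> obtain ⟨i, -, rfl⟩ := Finset.mem_image.1 h
        · exact ⟨(hr_ne i).2, (hr_ne i).1⟩
        · exact ⟨(hs_ne i).2, (hs_ne i).1⟩
      · rw [Finset.card_union_of_disjoint, Finset.card_image_of_injective _ hr_inj,
          Finset.card_image_of_injective _ hs_inj, Finset.card_univ, ZMod.card,
          Finset.card_erase_of_mem (by simp [hba]), Finset.card_erase_of_mem (Finset.mem_univ _),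
          Finset.card_univ, hΩ]
        · omega
        · rw [Finset.disjoint_left]
          intro w hw hw'
          obtain ⟨i, -, rfl⟩ := Finset.mem_image.1 hw
          obtain ⟨j, -, hj⟩ := Finset.mem_image.1 hw'
          exact hrs i j hj.symm
    have hz : z ∈ Finset.univ.image r ∪ Finset.univ.image s := by rw [hsub]; simp [hza, hzb]
    rcases Finset.mem_union.1 hz with h | h <;> obtain ⟨i, -, hi⟩ := Finset.mem_image.1 h
    · exact Or.inl ⟨i, hi⟩
    · exact Or.inr ⟨i, hi⟩
  -- adjacency in coordinates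
  let SC : Finset (ZMod q) := Finset.univ.filter fun i => E c (r i)
  let SD : Finset (ZMod q) := Finset.univ.filter fun i => E c (s i)
  have Erot : ∀ i z w, E (gi i • z) (gi i • w) ↔ E z w := fun i z w => Einv _ (hTL _ (hgiT i)) z w
  have hrr : ∀ i j, E (r i) (r j) ↔ j - i ∈ SC := by
    intro i j
    have : r j = gi i • r (j - i) := by
      show gi j • c = gi i • gi (j - i) • c
      rw [← mul_smul, ← hgiadd, add_sub_cancel]
    rw [this, show r i = gi i • c from rfl, Erot]
    simp [SC]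
  have hrs' : ∀ i j, E (r i) (s j) ↔ j - i ∈ SD := by
    intro i j
    have : s j = gi i • s (j - i) := by
      show gi j • v • c = gi i • gi (j - i) • v • c
      rw [← mul_smul (gi i) (gi (j - i)), ← hgiadd, add_sub_cancel]
    rw [this, show r i = gi i • c from rfl, Erot]
    simp [SD]
  have hss : ∀ i j, E (s i) (s j) ↔ i - j ∈ SC := by
    intro i j
    have e : ∀ m, s m = v • r (-m) := fun m => by
      show gi m • v • c = v • gi (-m) • c
      rw [← mul_smul, ← mul_smul, hgv, neg_neg]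
    rw [e, e, show (v • r (-i) : Ω) = (v : X) • r (-i) from rfl, show (v • r (-j) : Ω) = (v : X) • r (-j) from rfl,
      Einv _ hvL, hrr, show -j - -i = i - j by ring]
  have hSCsymm : ∀ i ∈ SC, -i ∈ SC := by
    intro i hi
    have h1 := (hrr 0 i).2 (by rwa [sub_zero])
    have h2 := (hrr i 0).1 (Esymm h1)
    rwa [zero_sub] at h2
  have hcard_com : ∀ z w, com z w =
      (Finset.univ.filter fun i => E z (r i) ∧ E w (r i)).card +
        (Finset.univ.filter fun i => E z (s i) ∧ E w (s i)).card := by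
    intro z w
    show (nb z ∩ nb w).card = _
    rw [← Finset.card_image_of_injective _ hr_inj, ← Finset.card_image_of_injective _ hs_inj,
      ← Finset.card_union_of_disjoint]
    · congr 1
      ext u
      simp only [Finset.mem_inter, hnb, Finset.mem_union, Finset.mem_image, Finset.mem_filter,
        Finset.mem_univ, true_and]
      constructor
      · rintro ⟨h1, h2⟩
        obtain ⟨hua, hub, -⟩ := Ene h1
        rcases hsurj u hua hub with ⟨i, rfl⟩ | ⟨i, rfl⟩
        · exact Or.inl ⟨i, ⟨h1, h2⟩, rfl⟩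
        · exact Or.inr ⟨i, ⟨h1, h2⟩, rfl⟩
      · rintro (⟨i, h, rfl⟩ | ⟨i, h, rfl⟩) <;> exact h
    · rw [Finset.disjoint_left]
      intro u hu hu'
      obtain ⟨i, -, rfl⟩ := Finset.mem_image.1 hu
      obtain ⟨j, -, hj⟩ := Finset.mem_image.1 hu'
      exact hrs i j hj.symm
  have hc0 : c = r 0 := by show c = gi 0 • c; rw [hgi0, one_smul]
  have hkval : SC.card + SD.card = k := by
    have := hcard_com c c
    simp only [and_self] at this
    rw [show com c c = k by simp [com, hk]] at this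
    exact this.symm
  have hrow : ∀ y, com (r 0) (r y) = (SC.filter fun i => y - i ∈ SC).card + (SD.filter fun i => i - y ∈ SD).card := by
    intro y
    rw [hcard_com]
    congr 1
    · congr 1
      ext i
      simp only [Finset.mem_filter, Finset.mem_univ, true_and, hrr, sub_zero]
      refine and_congr_right fun _ => ⟨fun h => ?_, fun h => ?_⟩
      · have := hSCsymm _ h; rwa [neg_sub] at this
      · have := hSCsymm _ h; rwa [neg_sub] at this
    · congr 1
      ext i
      simp only [Finset.mem_filter, Finset.mem_univ, true_and, hrs', sub_zero]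
  have hrefl : ∀ y, com (r 0) (s y) = 2 * (SC.filter fun i => y - i ∈ SD).card := by
    intro y
    rw [hcard_com, two_mul]
    congr 1
    · congr 1
      ext i
      simp only [Finset.mem_filter, Finset.mem_univ, true_and, hrr, sub_zero]
      refine and_congr_right fun _ => ⟨fun h => (hrs' i y).1 (Esymm h), fun h => Esymm ((hrs' i y).2 h)⟩
    · refine Finset.card_bij (fun j _ => y - j) (fun j hj => ?_) (fun i _ j _ h => sub_right_injective h)
        (fun i hi => ⟨y - i, ?_, sub_sub_cancel y i⟩)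
      · simp only [Finset.mem_filter, Finset.mem_univ, true_and, hrs', hss, sub_zero] at hj
        exact Finset.mem_filter.2 ⟨hj.2, by rw [sub_sub_cancel]; exact hj.1⟩
      · simp only [Finset.mem_filter, Finset.mem_univ, true_and, hrs', hss, sub_zero] at hi ⊢
        exact ⟨hi.2, by rw [sub_sub_cancel]; exact hi.1⟩
  have hklt : k + 1 < 2 * q := by
    have hsub : nb c ⊆ ((((Finset.univ : Finset Ω).erase a).erase b).erase c).erase y0 := by
      intro w hw
      obtain ⟨h1, h2, h3⟩ := Ene ((hnb _ _).1 hw)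
      have hy : w ≠ y0 := fun e => Rnot (e ▸ (hnb _ _).1 hw)
      simp [h1, h2, h3, hy]
    have := Finset.card_le_card hsub
    rw [Finset.card_erase_of_mem (by simp [hy0a, hy0b, hy0c]), Finset.card_erase_of_mem (by simp [hca, hcb]),
      Finset.card_erase_of_mem (by simp [hba]), Finset.card_erase_of_mem (Finset.mem_univ _),
      Finset.card_univ, hΩ] at this
    omega
  have hrow_val : ∀ y, (com (r 0) (r y) : ℤ) =
      (if y = 0 then ((k : ℤ) - mu) else 0) + ((lam : ℤ) - mu) * (if y ∈ SC then 1 else 0) + mu := by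
    intro y
    by_cases hy : y = 0
    · subst hy
      have h0 : (0 : ZMod q) ∉ SC := fun h => (Ene (Finset.mem_filter.1 h).2).2.2 hc0.symm
      rw [if_pos rfl, if_neg h0, show com (r 0) (r 0) = k by rw [← hc0]; simp [com, hk]]
      ring
    · rw [if_neg hy]
      by_cases hyC : y ∈ SC
      · rw [if_pos hyC, hlam' _ _ ((hrr 0 y).2 (by rwa [sub_zero]))]; ring
      · rw [if_neg hyC, hmu' _ _ (hr_ne 0).1 (hr_ne 0).2 (hr_ne y).1 (hr_ne y).2
          (fun e => hy (hr_inj e).symm) (fun h => hyC (by simpa using (hrr 0 y).1 h))]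
        ring
  have hrefl_val : ∀ y, (com (r 0) (s y) : ℤ) = ((lam : ℤ) - mu) * (if y ∈ SD then 1 else 0) + mu := by
    intro y
    by_cases hyD : y ∈ SD
    · rw [if_pos hyD, hlam' _ _ ((hrs' 0 y).2 (by rwa [sub_zero]))]; ring
    · rw [if_neg hyD, hmu' _ _ (hr_ne 0).1 (hr_ne 0).2 (hs_ne y).1 (hs_ne y).2 (hrs 0 y)
        (fun h => hyD (by simpa using (hrs' 0 y).1 h))]
      ring
  exact Cfsg.Agent.Lie.Bicirculant.Srg.false_of_odd
    { C := SC
      D := SD
      β := (lam : ℤ) - mu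
      γ := (k : ℤ) - mu
      μ := mu
      zero_notMem := fun h => (Ene (Finset.mem_filter.1 h).2).2.2 hc0.symm
      symm := hSCsymm
      eq_rot := fun y => by
        have := hrow_val y
        rw [hrow y] at this
        push_cast at this
        linarith
      eq_refl := fun y => by
        have := hrefl_val y
        rw [hrefl y] at this
        push_cast at this
        linarith
      μ_ne_zero := by exact_mod_cast hmu0
      μ_ne_degree := fun h => hmuk (by rw [← hkval]; exact_mod_cast h)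
      not_complete := by omega } hq

end Cfsg.Agent.Lie.PrimeLineOver
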