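import Cfsg.Agent.Lib.Lie.PrimeLineOver.Setup

/-!
# The point stabiliser of an even overgroup of PSL(2, p)
-/

set_option autoImplicit false
set_option linter.style.haveILetI false

namespace Cfsg.Agent.Lie.PrimeLineOver

open MulAction
open scoped Pointwise

theorem mem_normalizer_zpowers {H : Type*} [Group H] [Finite H] (s g : H) :
    g ∈ Subgroup.normalizer ((Subgroup.zpowers s : Subgroup H) : Set H) ↔
      g * s * g⁻¹ ∈ Subgroup.zpowers s := by
  constructor
  · intro h
    exact (Subgroup.mem_normalizer_iff.1 h s).1 (Subgroup.mem_zpowers s)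
  · intro h
    refine Subgroup.mem_normalizer_fintype fun z hz => ?_
    obtain ⟨n, rfl⟩ := Subgroup.mem_zpowers_iff.1 hz
    rw [← conj_zpow]
    exact Subgroup.zpow_mem _ h n

/-- A group of order `p (p - 1) / 2` has a normal subgroup of order `p`. -/
theorem sylow_small {H : Type*} [Group H] [Finite H] {p : ℕ} (hp : p.Prime) (hp7 : 7 < p)
    (h : 2 * Nat.card H = p * (p - 1)) :
    ∃ s : H, orderOf s = p ∧ ∀ g : H, g * s * g⁻¹ ∈ Subgroup.zpowers s := by
  haveI := Fact.mk hp
  have hpH : p ∣ Nat.card H :=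
    ((Nat.Prime.dvd_mul hp).1 (Dvd.intro _ h.symm)).resolve_left fun h2 => by
      have := Nat.le_of_dvd (by norm_num) h2; omega
  obtain ⟨s, hs⟩ := exists_prime_orderOf_dvd_card' (G := H) p hpH
  have hzc : Nat.card (Subgroup.zpowers s) = p := by rw [Nat.card_zpowers, hs]
  obtain ⟨P, hP⟩ := IsPGroup.exists_le_sylow (P := Subgroup.zpowers s) (p := p)
    (IsPGroup.of_card (n := 1) (by rw [hzc, pow_one]))
  have hlt : (P : Subgroup H).index < p := by
    have h1 := Subgroup.index_mul_card (P : Subgroup H)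
    have hge : p ≤ Nat.card (P : Subgroup H) := (le_of_eq hzc.symm).trans (Subgroup.card_le_of_le hP)
    have h2 : p * (2 * (P : Subgroup H).index) ≤ p * (p - 1) := by
      rw [← h, ← h1]; nlinarith
    have := Nat.le_of_mul_le_mul_left h2 hp.pos
    have := hp.pos
    omega
  haveI : Subsingleton (Sylow p H) := by
    rw [← Finite.card_le_one_iff_subsingleton]
    have hle := Nat.le_of_dvd (Nat.pos_of_ne_zero Subgroup.index_ne_zero_of_finite) (Sylow.card_dvd_index P)
    have h1 : Nat.card (Sylow p H) % p = 1 % p := card_sylow_modEq_one p H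
    rw [Nat.mod_eq_of_lt (lt_of_le_of_lt hle hlt), Nat.mod_eq_of_lt hp.one_lt] at h1
    omega
  haveI := Sylow.normal_of_subsingleton P
  have heq : Subgroup.zpowers s = (P : Subgroup H) := by
    obtain ⟨n, hn⟩ := P.isPGroup'.exists_card_eq
    refine Subgroup.eq_of_le_of_card_ge hP ?_
    rw [hzc, hn]
    rcases n with _ | _ | n
    · rw [pow_zero]; exact hp.one_le
    · rw [pow_one]
    · exfalso
      have hd : p ^ (n + 2) ∣ Nat.card H := hn ▸ Subgroup.card_subgroup_dvd_card _
      have h2 : p * p ∣ p * (p - 1) :=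
        h ▸ Dvd.dvd.mul_left ((dvd_of_eq (pow_two p).symm).trans ((pow_dvd_pow p (by omega)).trans hd)) 2
      have := Nat.le_of_dvd (by omega) (Nat.dvd_of_mul_dvd_mul_left hp.pos h2)
      omega
  refine ⟨s, hs, fun g => ?_⟩
  rw [heq]
  exact Subgroup.Normal.conj_mem inferInstance s (hP (Subgroup.mem_zpowers s)) g

/-- A solvable faithful transitive group of prime degree normalises its Sylow subgroup. -/
theorem solvable_prime_normal {K A : Type*} [Group K] [Finite K] [MulAction K A] [FaithfulSMul K A]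
    [Finite A] {p : ℕ} [Fact p.Prime] (hA : Nat.card A = p) [IsPretransitive K A]
    (hsol : Group.IsSolvable K) (P : Sylow p K) : (P : Subgroup K).Normal := by
  classical
  have hp := (Fact.out : p.Prime)
  have hPc := Cfsg.Agent.Lie.HalfNormalizer.sylow_card hA P
  haveI := IsPreprimitive.of_prime_card (G := K) (X := A) (hA ▸ hp)
  obtain ⟨N, hN0, hNn, hNab⟩ : ∃ N : Subgroup K, N ≠ ⊥ ∧ N.Normal ∧ ∀ x ∈ N, ∀ y ∈ N, Commute x y := by
    obtain ⟨m, hm⟩ := hsol.solvable
    have hex : ∃ m, derivedSeries K m = ⊥ := ⟨m, hm⟩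
    have hne : (⊤ : Subgroup K) ≠ ⊥ := by
      intro htop
      have h1 : Nat.card K = 1 := by rw [← Subgroup.card_top, htop, Subgroup.card_bot]
      have h2 := Subgroup.card_subgroup_dvd_card (P : Subgroup K)
      rw [hPc, h1] at h2
      exact hp.one_lt.ne' (Nat.dvd_one.1 h2)
    have hpos : Nat.find hex ≠ 0 := fun h => hne (by
      have := Nat.find_spec hex
      rwa [h, derivedSeries_zero] at this)
    obtain ⟨j, hj⟩ := Nat.exists_eq_succ_of_ne_zero hpos
    refine ⟨derivedSeries K j, fun h => ?_, derivedSeries_normal K j, fun x hx y hy => ?_⟩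
    · have := Nat.find_min' hex h
      omega
    · have h := Nat.find_spec hex
      rw [hj, derivedSeries_succ, Subgroup.commutator_eq_bot_iff_le_centralizer] at h
      exact Subgroup.mem_centralizer_iff.1 (h hy) x hx
  haveI := hNn
  haveI : IsPretransitive ↥N A := IsQuasiPreprimitive.isPretransitive_of_normal (G := K) fun h => hN0 (by
    rw [eq_bot_iff]
    intro g hg
    refine Subgroup.mem_bot.2 (eq_of_smul_eq_smul fun x : A => ?_)
    rw [one_smul]
    exact (show x ∈ fixedPoints (↥N) A from h ▸ Set.mem_univ x) ⟨g, hg⟩)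
  obtain ⟨a⟩ : Nonempty A := (Nat.card_pos_iff.1 (hA ▸ hp.pos)).1
  have hNc : Nat.card ↥N = p := by
    have hinj : Function.Injective fun g : ↥N => g • a := by
      intro g h hgh
      refine Subtype.ext (eq_of_smul_eq_smul fun x : A => ?_)
      obtain ⟨u, rfl⟩ := MulAction.exists_smul_eq ↥N a x
      have e1 : ((g : K) * (u : K)) = (u : K) * g := (hNab g g.2 u u.2).eq
      have e2 : ((h : K) * (u : K)) = (u : K) * h := (hNab h h.2 u u.2).eq
      show (g : K) • (u : K) • a = (h : K) • (u : K) • a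
      rw [← mul_smul, ← mul_smul, e1, e2, mul_smul, mul_smul]
      exact congrArg _ hgh
    rw [← hA]
    exact Nat.card_eq_of_bijective _ ⟨hinj, fun x => MulAction.exists_smul_eq ↥N a x⟩
  obtain ⟨P', hP'⟩ := IsPGroup.exists_le_sylow (P := N) (p := p) (IsPGroup.of_card (n := 1) (by rw [hNc, pow_one]))
  have hP'n : (P' : Subgroup K).Normal := by
    rw [← Subgroup.eq_of_le_of_card_ge hP' (le_of_eq ((Cfsg.Agent.Lie.HalfNormalizer.sylow_card hA P').trans hNc.symm))]
    exact hNn
  haveI : Subsingleton (Sylow p K) := (Sylow.unique_of_normal P' hP'n).instSubsingleton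
  rwa [Subsingleton.elim P P']

variable {X Ω : Type*} [Group X] [MulAction X Ω]

/-- The point stabiliser: insoluble, of prime degree, with half Sylow normaliser. -/
theorem point_data [Finite X] [FaithfulSMul X Ω] [Fintype Ω] [DecidableEq Ω] {p : ℕ} (hp : p.Prime)
    (hp7 : 7 < p) (hΩ : Fintype.card Ω = p + 1)
    (heven : ∀ x : X, Equiv.Perm.sign (MulAction.toPerm x : Equiv.Perm Ω) = 1)
    (D : Line X Ω p) (hne : D.L ≠ ⊤) (a : Ω) :
    haveI := Fact.mk hp
    FaithfulSMul ↥(stabilizer X a) ↥(SubMulAction.ofStabilizer X a) ∧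
    IsPretransitive ↥(stabilizer X a) ↥(SubMulAction.ofStabilizer X a) ∧
    Nat.card ↥(SubMulAction.ofStabilizer X a) = p ∧
    ¬ Group.IsSolvable ↥(stabilizer X a) ∧
    ∀ P : Sylow p ↥(stabilizer X a),
      2 * Nat.card ↥(Subgroup.normalizer ((P : Subgroup ↥(stabilizer X a)) : Set ↥(stabilizer X a))) =
        p * (p - 1) := by
  classical
  haveI := Fact.mk hp
  haveI := D.two
  haveI : IsPretransitive ↥D.L Ω := MulAction.isPretransitive_of_is_two_pretransitive
  have hLt : ∀ {x y z w : Ω}, x ≠ y → z ≠ w → ∃ g : ↥D.L, g • x = z ∧ g • y = w :=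
    fun {x y z w} h1 h3 => is_two_pretransitive_iff.1 D.two h1 h3
  set K := stabilizer X a with hK
  haveI hfaith : FaithfulSMul ↥K ↥(SubMulAction.ofStabilizer X a) := by
    constructor
    intro g h hgh
    refine Subtype.ext (eq_of_smul_eq_smul fun x : Ω => ?_)
    by_cases hx : x = a
    · rw [hx, show (g : X) • a = a from g.2, show (h : X) • a = a from h.2]
    · exact congrArg Subtype.val (hgh ⟨x, hx⟩)
  haveI htr : IsPretransitive ↥K ↥(SubMulAction.ofStabilizer X a) := ⟨fun ⟨x, hx⟩ ⟨y, hy⟩ => by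
    have hx' : x ≠ a := hx
    have hy' : y ≠ a := hy
    obtain ⟨g, ga, gx⟩ := hLt hx'.symm hy'.symm
    exact ⟨⟨(g : X), ga⟩, Subtype.ext gx⟩⟩
  have hAc : Nat.card ↥(SubMulAction.ofStabilizer X a) = p := by
    rw [Nat.card_congr (Equiv.subtypeEquivRight (q := fun x => x ≠ a) fun x => Iff.rfl :
      ↥(SubMulAction.ofStabilizer X a) ≃ {x : Ω // x ≠ a}), Nat.card_eq_fintype_card,
      Fintype.card_subtype_compl, Fintype.card_subtype_eq, hΩ, Nat.add_sub_cancel]
  -- the element of order p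
  obtain ⟨s₀, hs₀, hs₀n⟩ := sylow_small hp hp7 (D.card_one a)
  set s : X := ((s₀ : ↥D.L) : X) with hs
  have hsa : s • a = a := s₀.2
  have hso : orderOf s = p := by rw [hs, Subgroup.orderOf_coe, Subgroup.orderOf_coe, hs₀]
  have hLnorm : ∀ g ∈ D.L, g • a = a → g * s * g⁻¹ ∈ Subgroup.zpowers s := by
    intro g hg ga
    have h := hs₀n ⟨⟨g, hg⟩, ga⟩
    obtain ⟨n, hn⟩ := Subgroup.mem_zpowers_iff.1 h
    refine Subgroup.mem_zpowers_iff.2 ⟨n, ?_⟩
    have := congrArg (fun t : ↥(stabilizer ↥D.L a) => ((t : ↥D.L) : X)) hn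
    simpa using this
  -- coordinates
  obtain ⟨b, hba⟩ := Fintype.exists_ne_of_one_lt_card (α := Ω) (by omega) a
  let pw : ZMod p → X := fun i => s ^ i.val
  have hpw : ∀ n : ℕ, pw (n : ZMod p) = s ^ n := fun n => by
    show s ^ _ = s ^ n
    rw [ZMod.val_natCast, ← hso, pow_mod_orderOf]
  have hpwadd : ∀ i j, pw (i + j) = pw i * pw j := fun i j => by
    rw [← ZMod.natCast_zmod_val i, ← ZMod.natCast_zmod_val j, ← Nat.cast_add, hpw, hpw, hpw, pow_add]
  have hpw0 : pw 0 = 1 := by simpa using hpw 0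
  have hpw1 : pw 1 = s := by simpa using hpw 1
  have hpwL : ∀ i, pw i ∈ D.L := fun i => Subgroup.pow_mem _ (s₀ : ↥D.L).2 _
  have hpwa : ∀ i, pw i • a = a := fun i =>
    (show s ^ i.val ∈ stabilizer X a from Subgroup.pow_mem _ hsa _)
  have hpwfree : ∀ i, pw i • b = b → i = 0 := by
    intro i hi
    by_contra hi0
    have hmem : (⟨pw i, hpwL i⟩ : ↥D.L) ∈ stabilizer ↥D.L a ⊓ stabilizer ↥D.L b := ⟨hpwa i, hi⟩
    have h1 := Subgroup.orderOf_dvd_natCard _ hmem
    have h2 : orderOf (pw i) = p := orderOf_eq_prime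
      (by rw [← pow_mul, mul_comm, pow_mul, show s ^ p = 1 from hso ▸ pow_orderOf_eq_one s, one_pow]) (fun h => hi0 (by
        have h' : orderOf s ∣ i.val := orderOf_dvd_of_pow_eq_one h
        rw [hso] at h'
        rw [← ZMod.natCast_zmod_val i, (ZMod.natCast_eq_zero_iff _ _).2 h']))
    rw [← Subgroup.orderOf_coe] at h1
    simp only [h2] at h1
    have h3 := D.card_two a b hba.symm
    have := Nat.le_of_dvd Nat.card_pos h1
    omega
  let c : ZMod p → {x : Ω // x ≠ a} := fun i => ⟨pw i • b, fun h => hba (smul_left_cancel (pw i) (h.trans (hpwa i).symm))⟩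
  have hpwinj : ∀ i j, pw i • b = pw j • b → i = j := by
    intro i j h
    have : pw (-j + i) • b = b := by
      rw [hpwadd, mul_smul, h, ← mul_smul, ← hpwadd, neg_add_cancel, hpw0, one_smul]
    exact (neg_add_eq_zero.1 (hpwfree _ this)).symm
  have hreach : ∀ x, x ≠ a → ∃ i, pw i • b = x := by
    have hbij : Function.Bijective c := by
      rw [Fintype.bijective_iff_injective_and_card]
      refine ⟨fun i j h => hpwinj i j (congrArg Subtype.val h), ?_⟩
      rw [ZMod.card, Fintype.card_subtype_compl, Fintype.card_subtype_eq, hΩ, Nat.add_sub_cancel]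
    intro x hx
    obtain ⟨i, hi⟩ := hbij.2 ⟨x, hx⟩
    exact ⟨i, congrArg Subtype.val hi⟩
  -- the subgroup fixing a and b and normalising s
  set M : Subgroup X := stabilizer X a ⊓ stabilizer X b ⊓
    Subgroup.normalizer ((Subgroup.zpowers s : Subgroup X) : Set X) with hM
  have hmult : ∀ g : M, ∃ k : ZMod p, ∀ i, (g : X) * pw i * (g : X)⁻¹ = pw (k * i) := by
    intro g
    obtain ⟨n, hn⟩ := (mem_powers_iff_mem_zpowers (x := s)).2 ((mem_normalizer_zpowers _ _).1 g.2.2)
    refine ⟨(n : ZMod p), fun i => ?_⟩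
    have h1 : ∀ m : ℕ, (g : X) * pw (m : ZMod p) * (g : X)⁻¹ = pw ((n : ZMod p) * m) := by
      intro m
      rw [← Nat.cast_mul, hpw, hpw, ← conj_pow, pow_mul]
      exact congrArg (· ^ m) hn.symm
    rw [← ZMod.natCast_zmod_val i]; exact h1 _
  choose mu hmu using hmult
  have hpwinj' : Function.Injective pw := fun i j h => hpwinj i j (by rw [h])
  have hmu1 : ∀ (g : M) (k : ZMod p), (g : X) * pw 1 * (g : X)⁻¹ = pw k → mu g = k := fun g k h =>
    hpwinj' (by rw [← h, hmu g 1, mul_one])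
  let μ : M →* ZMod p :=
    { toFun := mu
      map_one' := hmu1 1 1 (by simp)
      map_mul' := fun g h => hmu1 _ _ (by
        rw [← hmu g (mu h), ← mul_one (mu h), ← hmu h 1]
        simp only [Subgroup.coe_mul, mul_inv_rev, mul_one]
        group) }
  have hact : ∀ (g : M) i, (g : X) • pw i • b = pw (mu g * i) • b := by
    intro g i
    rw [← mul_smul, mul_inv_eq_iff_eq_mul.1 (hmu g i), mul_smul, show (g : X) • b = b from g.2.1.2]
  have hμinj : Function.Injective μ.toHomUnits := by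
    rw [injective_iff_map_eq_one]
    intro g hg
    have h1 : mu g = 1 := congrArg Units.val hg
    refine Subtype.ext (eq_of_smul_eq_smul fun x : Ω => ?_)
    rw [Subgroup.coe_one, one_smul]
    by_cases hx : x = a
    · rw [hx]; exact g.2.1.1
    · obtain ⟨i, rfl⟩ := hreach x hx
      rw [hact, h1, one_mul]
  have hMlow : (p - 1) ≤ 2 * Nat.card M ∧ (p - 1) ∣ 2 * Nat.card M := by
    have hle : (stabilizer ↥D.L a ⊓ stabilizer ↥D.L b).map D.L.subtype ≤ M := by
      rintro _ ⟨g, ⟨ga, gb⟩, rfl⟩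
      exact ⟨⟨ga, gb⟩, (mem_normalizer_zpowers _ _).2 (hLnorm _ g.2 ga)⟩
    have hd := Subgroup.card_dvd_of_le hle
    rw [Nat.card_congr ((stabilizer ↥D.L a ⊓ stabilizer ↥D.L b).equivMapOfInjective D.L.subtype
      D.L.subtype_injective).toEquiv.symm] at hd
    refine ⟨?_, D.card_two a b hba.symm ▸ Nat.mul_dvd_mul_left 2 hd⟩
    rw [← D.card_two a b hba.symm]
    exact Nat.mul_le_mul_left 2 (Nat.le_of_dvd Nat.card_pos hd)
  have hMdvd : Nat.card M ∣ p - 1 := by
    have := Subgroup.card_dvd_of_injective μ.toHomUnits hμinj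
    rwa [Nat.card_eq_fintype_card (α := (ZMod p)ˣ), ZMod.card_units] at this
  have hMhalf : 2 * Nat.card M = p - 1 := by
    obtain ⟨m, hm⟩ := hMdvd
    by_contra hne2
    have hfull : Nat.card M = p - 1 := by
      have hm0 : m ≠ 0 := by rintro rfl; omega
      rcases Nat.lt_or_ge m 2 with h | h
      · interval_cases m <;> omega
      · exfalso
        have : Nat.card M * 2 ≤ Nat.card M * m := Nat.mul_le_mul_left _ h
        omega
    haveI : IsCyclic M := isCyclic_of_injective _ hμinj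
    obtain ⟨g, hg⟩ := IsCyclic.exists_generator (α := M)
    have hgo : orderOf g = p - 1 := by rw [orderOf_eq_card_of_forall_mem_zpowers hg, hfull]
    set σ : Equiv.Perm Ω := MulAction.toPermHom X Ω (g : X) with hσ
    have hfix : ∀ x, σ x ≠ x ↔ x ≠ a ∧ x ≠ b := by
      intro x
      constructor
      · intro h
        exact ⟨fun e => h (by rw [e]; exact g.2.1.1), fun e => h (by rw [e]; exact g.2.1.2)⟩
      · rintro ⟨hxa, hxb⟩ h
        obtain ⟨i, rfl⟩ := hreach x hxa
        have h' : (g : X) • pw i • b = pw i • b := h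
        rw [hact] at h'
        have hi0 : i ≠ 0 := fun e => hxb (by rw [e, hpw0, one_smul])
        have h1 : mu g = 1 := (mul_left_eq_self₀.1 (hpwinj _ _ h')).resolve_right hi0
        have : g = 1 := hμinj (Units.ext (by rw [map_one]; exact h1))
        rw [this, orderOf_one] at hgo
        omega
    have hall : ∀ k : ZMod p, k ≠ 0 → ∃ n : ℕ, mu (g ^ n) = k := by
      intro k hk
      have hsurj : Function.Surjective μ.toHomUnits := ((Nat.bijective_iff_injective_and_card _).2
        ⟨hμinj, by rw [hfull, Nat.card_eq_fintype_card (α := (ZMod p)ˣ), ZMod.card_units]⟩).2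
      obtain ⟨m', hm'⟩ := hsurj (Units.mk0 k hk)
      obtain ⟨n, hn⟩ := (mem_powers_iff_mem_zpowers (x := g)).2 (hg m')
      exact ⟨n, by rw [show g ^ n = m' from hn]; exact congrArg Units.val hm'⟩
    have hσpow : ∀ (n : ℕ) i, (σ ^ n) (pw i • b) = pw (mu (g ^ n) * i) • b := by
      intro n i
      rw [hσ, ← map_pow, ← hact]
      rfl
    have hsupp : σ.support = (Finset.univ.erase a).erase b := by
      ext x
      simp only [Equiv.Perm.mem_support, Finset.mem_erase, Finset.mem_univ, and_true, hfix]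
      tauto
    have hcyc : σ.IsCycle := by
      obtain ⟨i₁, hi₁⟩ : ∃ i : ZMod p, i ≠ 0 := ⟨1, one_ne_zero⟩
      have hne1 : pw i₁ • b ≠ a ∧ pw i₁ • b ≠ b :=
        ⟨(c i₁).2, fun h => hi₁ (hpwfree _ h)⟩
      refine ⟨pw i₁ • b, (hfix _).2 hne1, fun y hy => ?_⟩
      obtain ⟨hya, hyb⟩ := (hfix y).1 hy
      obtain ⟨j, rfl⟩ := hreach y hya
      have hj : j ≠ 0 := fun e => hyb (by rw [e, hpw0, one_smul])
      obtain ⟨n, hn⟩ := hall (j / i₁) (div_ne_zero hj hi₁)
      refine ⟨(n : ℤ), ?_⟩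
      rw [zpow_natCast, hσpow, hn, div_mul_cancel₀ _ hi₁]
    have hsign := hcyc.sign
    rw [hsupp, Finset.card_erase_of_mem (by simp [hba]), Finset.card_erase_of_mem (Finset.mem_univ _),
      Finset.card_univ, hΩ, Nat.add_sub_cancel, Even.neg_one_pow
        (Nat.Odd.sub_odd (hp.odd_of_ne_two (by omega)) odd_one)] at hsign
    rw [show σ = MulAction.toPerm (g : X) from rfl, heven] at hsign
    exact absurd hsign (by decide)
  -- the Sylow subgroup and its normaliser
  let sK : ↥K := ⟨s, hsa⟩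
  have hsK : orderOf sK = p := by rw [← Subgroup.orderOf_coe]; exact hso
  have hNcard : ∀ P : Sylow p ↥K,
      2 * Nat.card ↥(Subgroup.normalizer ((P : Subgroup ↥K) : Set ↥K)) = p * (p - 1) := by
    obtain ⟨P₀, hP₀⟩ := IsPGroup.exists_le_sylow (P := Subgroup.zpowers sK) (p := p)
      (IsPGroup.of_card (n := 1) (by rw [Nat.card_zpowers, hsK, pow_one]))
    have hP₀eq : Subgroup.zpowers sK = (P₀ : Subgroup ↥K) := Subgroup.eq_of_le_of_card_ge hP₀ (by
      rw [Cfsg.Agent.Lie.HalfNormalizer.sylow_card hAc P₀, Nat.card_zpowers, hsK])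
    have hcoe : ∀ g : ↥K, g ∈ Subgroup.normalizer ((Subgroup.zpowers sK : Subgroup ↥K) : Set ↥K) ↔
        (g : X) * s * (g : X)⁻¹ ∈ Subgroup.zpowers s := by
      intro g
      rw [mem_normalizer_zpowers, Subgroup.mem_zpowers_iff, Subgroup.mem_zpowers_iff]
      refine exists_congr fun n => ⟨fun h => ?_, fun h => ?_⟩
      · have := congrArg Subtype.val h
        simpa [sK] using this
      · apply Subtype.ext
        simpa [sK] using h
    set N := Subgroup.normalizer ((P₀ : Subgroup ↥K) : Set ↥K) with hN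
    let b' : ↥(SubMulAction.ofStabilizer X a) := ⟨b, hba⟩
    haveI : IsPretransitive ↥N ↥(SubMulAction.ofStabilizer X a) := by
      have hto : ∀ x : ↥(SubMulAction.ofStabilizer X a), ∃ g : ↥N, g • b' = x := by
        rintro ⟨x, hx⟩
        obtain ⟨i, rfl⟩ := hreach x hx
        refine ⟨⟨⟨pw i, hpwa i⟩, ?_⟩, rfl⟩
        rw [hN, ← hP₀eq, hcoe]
        exact Subgroup.mul_mem _ (Subgroup.mul_mem _ (Subgroup.pow_mem _ (Subgroup.mem_zpowers s) _)
          (Subgroup.mem_zpowers s)) (Subgroup.inv_mem _ (Subgroup.pow_mem _ (Subgroup.mem_zpowers s) _))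
      refine ⟨fun x y => ?_⟩
      obtain ⟨g, rfl⟩ := hto x
      obtain ⟨h, rfl⟩ := hto y
      exact ⟨h * g⁻¹, by rw [mul_smul, inv_smul_smul]⟩
    have hst : Nat.card ↥(stabilizer ↥N b') = Nat.card M := Nat.card_congr
      { toFun := fun g => ⟨(((g : ↥N) : ↥K) : X), ⟨((g : ↥N) : ↥K).2, congrArg Subtype.val g.2⟩,
          (mem_normalizer_zpowers _ _).2 ((hcoe _).1 (hP₀eq ▸ (g : ↥N).2))⟩
        invFun := fun g => ⟨⟨⟨(g : X), g.2.1.1⟩, by
          rw [hN, ← hP₀eq, hcoe]; exact (mem_normalizer_zpowers _ _).1 g.2.2⟩, Subtype.ext g.2.1.2⟩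
        left_inv := fun _ => rfl
        right_inv := fun _ => rfl }
    have hmain : 2 * Nat.card ↥N = p * (p - 1) := by
      have h := Subgroup.card_mul_index (stabilizer ↥N b')
      rw [index_stabilizer_of_transitive, hAc, hst] at h
      rw [← h, ← hMhalf]; ring
    intro P
    have hidx : (Subgroup.normalizer ((P : Subgroup ↥K) : Set ↥K)).index = N.index := by
      exact (Sylow.card_eq_index_normalizer P).symm.trans (Sylow.card_eq_index_normalizer P₀)
    have e1 := Subgroup.card_mul_index (Subgroup.normalizer ((P : Subgroup ↥K) : Set ↥K))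
    have e2 := Subgroup.card_mul_index N
    rw [hidx] at e1
    rw [Nat.eq_of_mul_eq_mul_right (Nat.pos_of_ne_zero Subgroup.index_ne_zero_of_finite) (e1.trans e2.symm)]
    exact hmain
  refine ⟨hfaith, htr, hAc, fun hsol => hne ?_, hNcard⟩
  -- solvable point stabiliser
  obtain ⟨P, -⟩ := IsPGroup.exists_le_sylow (P := Subgroup.zpowers sK) (p := p)
    (IsPGroup.of_card (n := 1) (by rw [Nat.card_zpowers, hsK, pow_one]))
  haveI := solvable_prime_normal hAc hsol P
  have hKc := hNcard P
  rw [Subgroup.normalizer_eq_top, Subgroup.card_top, ← D.card_one a] at hKc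
  have hKL : Nat.card ↥K ≤ Nat.card ↥((stabilizer ↥D.L a).map D.L.subtype) := by
    rw [Nat.card_congr ((stabilizer ↥D.L a).equivMapOfInjective D.L.subtype
      D.L.subtype_injective).toEquiv.symm]
    omega
  have hle : (stabilizer ↥D.L a).map D.L.subtype ≤ K := by
    rintro _ ⟨g, hg, rfl⟩; exact hg
  have heq := Subgroup.eq_of_le_of_card_ge hle hKL
  rw [eq_top_iff]
  intro x _
  obtain ⟨l, hl⟩ := MulAction.exists_smul_eq ↥D.L a (x • a)
  have hmem : ((l : X))⁻¹ * x ∈ K := by
    show ((l : X)⁻¹ * x) • a = a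
    rw [mul_smul, inv_smul_eq_iff]
    exact hl.symm
  rw [← heq] at hmem
  obtain ⟨k, -, hk⟩ := hmem
  have : x = (l : X) * (k : X) := by
    rw [show ((k : ↥D.L) : X) = (l : X)⁻¹ * x from hk, mul_inv_cancel_left]
  rw [this]
  exact mul_mem l.2 k.2

end Cfsg.Agent.Lie.PrimeLineOver
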