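import Cfsg.Agent.Lib.Lie.HalfNormalizer.Block
import Cfsg.Agent.Lib.Classical.Dickson.Tools
import Cfsg.Agent.S0345

/-!
# Overgroups of PSL(2, p) on the projective line: the point stabiliser

A group of even permutations of `p + 1` points properly containing a doubly transitive copy of
PSL(2, p) has point stabilisers that are insoluble of prime degree with half Sylow normaliser.
-/

set_option autoImplicit false
set_option linter.style.haveILetI false

namespace Cfsg.Agent.Lie.PrimeLineOver

open MulAction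

variable {X Ω : Type*} [Group X] [MulAction X Ω]

/-- What the doubly transitive copy of PSL(2, p) provides. -/
structure Line (X : Type*) (Ω : Type*) [Group X] [MulAction X Ω] (p : ℕ) where
  L : Subgroup X
  two : IsMultiplyPretransitive ↥L Ω 2
  three : ∀ g ∈ L, ∀ a b c : Ω, a ≠ b → b ≠ c → a ≠ c → g • a = a → g • b = b → g • c = c → g = 1
  card_one : ∀ a : Ω, 2 * Nat.card ↥(stabilizer ↥L a) = p * (p - 1)
  card_two : ∀ a b : Ω, a ≠ b → 2 * Nat.card ↥(stabilizer ↥L a ⊓ stabilizer ↥L b) = p - 1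
  torus : ∀ a b : Ω, a ≠ b → IsCyclic ↥(stabilizer ↥L a ⊓ stabilizer ↥L b) ∧
    ∃ v : ↥L, orderOf v = 2 ∧ v • a = b ∧ v • b = a ∧
      ∀ h ∈ stabilizer ↥L a ⊓ stabilizer ↥L b, v * h * v⁻¹ = h⁻¹

theorem smul_sub_def {L : Subgroup X} (g : ↥L) (a : Ω) : g • a = (g : X) • a := rfl

theorem psl_line [Finite X] [FaithfulSMul X Ω] [Fintype Ω] {p : ℕ} (hp : p.Prime) (hp7 : 7 < p)
    (hΩ : Fintype.card Ω = p + 1) (L : Subgroup X)
    (hL : Nonempty (↥L ≃* Matrix.ProjectiveSpecialLinearGroup (Fin 2) (ZMod p)))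
    (hLt : IsMultiplyPretransitive ↥L Ω 2) : ∃ D : Line X Ω p, D.L = L := by
  classical
  haveI := Fact.mk hp
  obtain ⟨e⟩ := hL
  have hcardL : 2 * Nat.card ↥L = p * (p ^ 2 - 1) := by
    have h := Cfsg.Agent.Classical.Dickson.card_psl (ZMod p)
    rw [ZMod.card] at h
    rw [Nat.card_congr e.toEquiv, mul_comm, ← h]
    congr 1
    symm
    refine Nat.gcd_eq_left ?_
    have := hp.eq_two_or_odd
    omega
  haveI : IsSimpleGroup (Matrix.ProjectiveSpecialLinearGroup (Fin 2) (ZMod p)) :=
    Matrix.ProjectiveSpecialLinearGroup.rank_two_simple (by rw [Nat.card_zmod]; omega)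
  haveI : IsSimpleGroup ↥L := e.isSimpleGroup
  haveI : IsPretransitive ↥L Ω := MulAction.isPretransitive_of_is_two_pretransitive
  have hLt' : ∀ {x y z w : Ω}, x ≠ y → z ≠ w → ∃ g : ↥L, g • x = z ∧ g • y = w :=
    fun {x y z w} h1 h3 => is_two_pretransitive_iff.1 hLt h1 h3
  have hcard1 : ∀ a : Ω, 2 * Nat.card ↥(stabilizer ↥L a) = p * (p - 1) := by
    intro a
    have h := Subgroup.card_mul_index (stabilizer ↥L a)
    rw [index_stabilizer_of_transitive, Nat.card_eq_fintype_card (α := Ω), hΩ] at h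
    refine Nat.eq_of_mul_eq_mul_right (Nat.succ_pos p) ?_
    rw [Nat.succ_eq_add_one, mul_assoc, h, hcardL, mul_assoc, ← pow_two_sub_one p]
  have hcard2 : ∀ a b : Ω, a ≠ b → 2 * Nat.card ↥(stabilizer ↥L a ⊓ stabilizer ↥L b) = p - 1 := by
    intro a b hab
    have horb : MulAction.orbit ↥(stabilizer ↥L a) b = {x | x ≠ a} := by
      ext x
      constructor
      · rintro ⟨⟨g, hg⟩, rfl⟩ he
        exact hab (smul_left_cancel g ((show g • a = a from hg).trans he.symm))
      · intro hx
        obtain ⟨g, ga, gb⟩ := hLt' hab (Ne.symm hx)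
        exact ⟨⟨g, ga⟩, gb⟩
    have h := Subgroup.card_mul_index (stabilizer ↥(stabilizer ↥L a) b)
    have hne : ({x | x ≠ a} : Set Ω).ncard = p := by
      rw [show ({x | x ≠ a} : Set Ω) = ({a} : Set Ω)ᶜ from rfl, Set.ncard_compl, Set.ncard_singleton,
        Nat.card_eq_fintype_card, hΩ, Nat.add_sub_cancel]
    rw [index_stabilizer, horb, hne] at h
    have heq : Nat.card ↥(stabilizer ↥(stabilizer ↥L a) b) =
        Nat.card ↥(stabilizer ↥L a ⊓ stabilizer ↥L b) :=
      Nat.card_congr
        { toFun := fun g => ⟨g.1.1, g.1.2, g.2⟩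
          invFun := fun g => ⟨⟨g.1, g.2.1⟩, g.2.2⟩
          left_inv := fun _ => rfl
          right_inv := fun _ => rfl }
    rw [heq] at h
    have h1 := hcard1 a
    rw [← h, ← mul_assoc, mul_comm _ p] at h1
    exact Nat.eq_of_mul_eq_mul_left hp.pos h1
  have hthree : ∀ g ∈ L, ∀ a b c : Ω, a ≠ b → b ≠ c → a ≠ c →
      g • a = a → g • b = b → g • c = c → g = 1 := by
    intro g hg a b c hab hbc hac ga gb gc
    set K := stabilizer ↥L a with hK
    have hpK : p ∣ Nat.card ↥K := by
      have h : p ∣ 2 * Nat.card ↥K := Dvd.intro _ (hcard1 a).symm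
      exact ((Nat.Prime.dvd_mul hp).1 h).resolve_left fun h2 => by
        have := Nat.le_of_dvd (by norm_num) h2; omega
    obtain ⟨s, hs⟩ := exists_prime_orderOf_dvd_card' (G := ↥K) p hpK
    obtain ⟨P, hP⟩ := IsPGroup.exists_le_sylow (P := Subgroup.zpowers s) (p := p)
      (IsPGroup.of_card (n := 1) (by rw [Nat.card_zpowers, hs, pow_one]))
    have hsub : Subsingleton (Sylow p ↥K) := by
      rw [← Finite.card_le_one_iff_subsingleton]
      have hne : Nat.card (Sylow p ↥K) ≠ 0 := Nat.card_pos.ne'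
      have hd := Sylow.card_dvd_index P
      have hmod : Nat.card (Sylow p ↥K) ≡ 1 [MOD p] := card_sylow_modEq_one p ↥K
      have hidx : P.index * p ∣ Nat.card ↥K := by
        rw [← Subgroup.index_mul_card (P : Subgroup ↥K)]
        exact Nat.mul_dvd_mul_left _ ((dvd_of_eq ((Nat.card_zpowers s).trans hs).symm).trans
          (Subgroup.card_dvd_of_le hP))
      have h2 : p * (2 * P.index) ≤ p * (p - 1) := by
        rw [← hcard1 a]
        have := Nat.le_of_dvd Nat.card_pos hidx
        nlinarith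
      have hlt : Nat.card (Sylow p ↥K) < p := by
        have := Nat.le_of_mul_le_mul_left h2 hp.pos
        have := Nat.le_of_dvd (Nat.pos_of_ne_zero Subgroup.index_ne_zero_of_finite) hd
        have := hp.two_le
        omega
      have h1 : Nat.card (Sylow p ↥K) % p = 1 % p := hmod
      rw [Nat.mod_eq_of_lt hlt, Nat.mod_eq_of_lt hp.one_lt] at h1
      omega
    have hPc : Nat.card (P : Subgroup ↥K) = p := by
      obtain ⟨n, hn⟩ := P.isPGroup'.exists_card_eq
      have hd : Nat.card (P : Subgroup ↥K) ∣ Nat.card ↥K := Subgroup.card_subgroup_dvd_card _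
      have hge : p ≤ Nat.card (P : Subgroup ↥K) :=
        (le_of_eq ((Nat.card_zpowers s).trans hs).symm).trans (Subgroup.card_le_of_le hP)
      rcases n with _ | _ | n
      · rw [pow_zero] at hn; have := hp.one_lt; omega
      · rwa [pow_one] at hn
      · exfalso
        rw [hn] at hd
        have h2 : p * p ∣ 2 * Nat.card ↥K :=
          Dvd.dvd.mul_left ((dvd_of_eq (pow_two p).symm).trans ((pow_dvd_pow p (by omega)).trans hd)) 2
        rw [hcard1] at h2
        have := Nat.le_of_dvd (by omega) (Nat.dvd_of_mul_dvd_mul_left hp.pos h2)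
        omega
    have hgenP : (P : Subgroup ↥K) = Subgroup.zpowers s :=
      (Subgroup.eq_of_le_of_card_ge hP (by rw [Nat.card_zpowers, hs, hPc])).symm
    haveI : (P : Subgroup ↥K).Normal := Sylow.normal_of_subsingleton P
    let γ : ↥K := ⟨⟨g, hg⟩, ga⟩
    -- the cycle through b
    have hsfree : ∀ t ∈ (P : Subgroup ↥K), t • b = b → t = 1 := by
      intro t ht htb
      by_contra hne
      have h1 : orderOf (⟨t, htb⟩ : ↥(stabilizer ↥K b)) = p := by
        rw [← Subgroup.orderOf_coe]
        show orderOf t = p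
        have hdp : orderOf t ∣ p := hPc ▸ Subgroup.orderOf_dvd_natCard _ ht
        exact ((Nat.dvd_prime hp).1 hdp).resolve_left fun h => hne (orderOf_eq_one_iff.1 h)
      have h2 : p ∣ Nat.card ↥(stabilizer ↥L a ⊓ stabilizer ↥L b) := by
        have h := Subgroup.orderOf_dvd_natCard (stabilizer ↥L a ⊓ stabilizer ↥L b)
          (show ((t : ↥K) : ↥L) ∈ stabilizer ↥L a ⊓ stabilizer ↥L b from ⟨t.2, htb⟩)
        rw [← Subgroup.orderOf_coe] at h1
        rw [Subgroup.orderOf_coe] at h
        exact (dvd_of_eq h1.symm).trans h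
      have h3 := hcard2 a b hab
      have := Nat.le_of_dvd Nat.card_pos h2
      omega
    have hreach : ∀ x : Ω, x ≠ a → ∃ t ∈ (P : Subgroup ↥K), t • b = x := by
      intro x hx
      let f : ↥(P : Subgroup ↥K) → {x : Ω // x ≠ a} := fun t => ⟨(t : ↥K) • b, fun h =>
        hab (smul_left_cancel ((t : ↥K) : ↥L) (((t : ↥K).2 : _ • a = a).trans h.symm))⟩
      have hf : Function.Injective f := by
        intro u w h
        have h' : (u : ↥K) • b = (w : ↥K) • b := congrArg Subtype.val h
        apply Subtype.ext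
        have := hsfree ((w : ↥K)⁻¹ * u) (mul_mem (inv_mem w.2) u.2) (by rw [mul_smul, h', inv_smul_smul])
        exact (inv_mul_eq_one.1 this).symm
      have hbij : Function.Bijective f := (Nat.bijective_iff_injective_and_card f).2 ⟨hf, by
        rw [hPc, Nat.card_eq_fintype_card, Fintype.card_subtype_compl, Fintype.card_subtype_eq, hΩ,
          Nat.add_sub_cancel]⟩
      obtain ⟨t, ht⟩ := hbij.2 ⟨x, hx⟩
      exact ⟨t, t.2, congrArg Subtype.val ht⟩
    have hγb : γ • b = b := gb
    obtain ⟨tc, htc, htcb⟩ := hreach c hac.symm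
    have hcomm : γ * tc * γ⁻¹ = tc := by
      have hmem : γ * tc * γ⁻¹ ∈ (P : Subgroup ↥K) := Subgroup.Normal.conj_mem inferInstance tc htc γ
      have hb' : (γ * tc * γ⁻¹) • b = tc • b := by
        rw [mul_smul, mul_smul, inv_smul_eq_iff.2 hγb.symm, htcb]
        exact gc
      have := hsfree (tc⁻¹ * (γ * tc * γ⁻¹)) (mul_mem (inv_mem htc) hmem)
        (by rw [mul_smul, hb', inv_smul_smul])
      exact (inv_mul_eq_one.1 this).symm
    have htc1 : tc ≠ 1 := fun h => hbc (by rw [← htcb, h, one_smul])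
    have htgen : ∀ t ∈ (P : Subgroup ↥K), Commute γ t := by
      intro t ht
      have hz : Subgroup.zpowers tc = (P : Subgroup ↥K) :=
        Subgroup.eq_of_le_of_card_ge (Subgroup.zpowers_le.2 htc) (by
          rw [Nat.card_zpowers, hPc]
          have hdp : orderOf tc ∣ p := hPc ▸ Subgroup.orderOf_dvd_natCard _ htc
          rw [((Nat.dvd_prime hp).1 hdp).resolve_left fun h => htc1 (orderOf_eq_one_iff.1 h)])
      obtain ⟨n, rfl⟩ := Subgroup.mem_zpowers_iff.1 (hz ▸ ht)
      exact (show Commute γ tc from mul_inv_eq_iff_eq_mul.1 hcomm).zpow_right n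
    refine eq_of_smul_eq_smul fun x : Ω => ?_
    rw [one_smul]
    by_cases hx : x = a
    · rw [hx, ga]
    · obtain ⟨t, ht, rfl⟩ := hreach x hx
      show γ • t • b = t • b
      rw [← mul_smul, (htgen t ht).eq, mul_smul, hγb]
  have hZ : Cfsg.IsZassenhausGroup ↥L Ω := by
    refine ⟨inferInstance, hLt, fun g a b c hab hbc hac ga gb gc =>
      Subtype.ext (hthree g g.2 a b c hab hbc hac ga gb gc), ?_, ?_⟩
    · obtain ⟨a, b, hab⟩ := Fintype.exists_pair_of_one_lt_card (α := Ω) (by omega)
      have h := hcard2 a b hab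
      haveI : Nontrivial ↥(stabilizer ↥L a ⊓ stabilizer ↥L b) := by
        rw [← Finite.one_lt_card_iff_nontrivial]; omega
      obtain ⟨g, hg⟩ := exists_ne (1 : ↥(stabilizer ↥L a ⊓ stabilizer ↥L b))
      exact ⟨g, fun h => hg (Subtype.ext h), a, b, hab, g.2.1, g.2.2⟩
    · intro N hN hNt
      rcases hN.eq_bot_or_eq_top with rfl | rfl
      · exfalso
        obtain ⟨a, b, hab⟩ := Fintype.exists_pair_of_one_lt_card (α := Ω) (by omega)
        obtain ⟨⟨g, hg⟩, hgab⟩ := MulAction.exists_smul_eq (⊥ : Subgroup ↥L) a b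
        rw [Subgroup.mem_bot] at hg
        subst hg
        exact hab (by simpa using hgab)
      · obtain ⟨a⟩ : Nonempty Ω := Fintype.card_pos_iff.1 (by omega)
        refine ⟨a, fun h => ?_⟩
        have h1 := hcard1 a
        have h2 : Nat.card ↥(stabilizer ↥L a) = 1 := by
          rw [Subgroup.card_eq_one, eq_bot_iff]
          intro g hg
          have : (⟨g, Subgroup.mem_top g⟩ : (⊤ : Subgroup ↥L)) ∈ stabilizer (⊤ : Subgroup ↥L) a := hg
          rw [h, Subgroup.mem_bot] at this
          exact Subgroup.mem_bot.2 (congrArg Subtype.val this)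
        rw [h2] at h1
        nlinarith [Nat.sub_add_cancel hp.one_le]
  exact ⟨⟨L, hLt, hthree, hcard1, hcard2, fun a b hab => Cfsg.Agent.S0345.result hZ hab⟩, rfl⟩
where
  pow_two_sub_one (p : ℕ) : (p - 1) * (p + 1) = p ^ 2 - 1 := by
    rw [mul_comm, ← Nat.sq_sub_sq, one_pow]

end Cfsg.Agent.Lie.PrimeLineOver
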